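import Mathlib.Tactic
import Mathlib.GroupTheory.Sylow
import Mathlib.GroupTheory.Perm.Basic

/-!
# `2`-groups acting on a group of order `4`

A `2`-group normalizing a subgroup `U` of order `4` induces a group of automorphisms of order at most `2`:
`|A| ≤ 2 |C_A(U)|`.  (`Aut U` embeds in the symmetric group on the three non-identity elements.)
-/

set_option autoImplicit false

namespace Cfsg.Agent.Lib.Helper49.FFAb

variable {Γ : Type*} [Group Γ]

section Aut

variable {X : Type*} [Group X]

/-- automorphisms permute the non-identity elements. -/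
def autPermNonOne : MulAut X →* Equiv.Perm {x : X // x ≠ 1} where
  toFun α := α.toEquiv.subtypeEquiv (fun x => by
    show x ≠ 1 ↔ α x ≠ 1
    rw [Ne, Ne, EmbeddingLike.map_eq_one_iff])
  map_one' := by
    ext x
    rfl
  map_mul' := by
    intro α β
    ext x
    rfl

theorem autPermNonOne_injective : Function.Injective (autPermNonOne (X := X)) := by
  rw [injective_iff_map_eq_one]
  intro α hα
  ext x
  by_cases hx : x = 1
  · rw [hx, map_one]; simp
  · have := congrArg (fun f : Equiv.Perm {x : X // x ≠ 1} => ((f ⟨x, hx⟩ : {x : X // x ≠ 1}) : X)) hα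
    exact this

theorem card_mulAut_dvd_of_card_four [Finite X] (hX : Nat.card X = 4) : Nat.card (MulAut X) ∣ 6 := by
  classical
  have : Fintype X := Fintype.ofFinite X
  have h1 : Fintype.card {x : X // x ≠ 1} = 3 := by
    rw [Fintype.card_subtype_compl, ← Nat.card_eq_fintype_card, hX]
    simp
  have h2 : Nat.card (Equiv.Perm {x : X // x ≠ 1}) = 6 := by
    rw [Nat.card_eq_fintype_card, Fintype.card_perm, h1]
    rfl
  have h3 := Subgroup.card_dvd_of_injective (autPermNonOne (X := X)) autPermNonOne_injective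
  rwa [h2] at h3

end Aut

/-- conjugation action of the normalizer on a subgroup. -/
def conjAutOf (U : Subgroup Γ) : ↥(Subgroup.normalizer (U : Set Γ)) →* MulAut ↥U where
  toFun n :=
    { toFun := fun u => ⟨(n : Γ) * u * (n : Γ)⁻¹, (Subgroup.mem_normalizer_iff.mp n.2 u).mp u.2⟩
      invFun := fun u => ⟨(n : Γ)⁻¹ * u * (n : Γ), by
        have h := (Subgroup.mem_normalizer_iff.mp (Subgroup.inv_mem _ n.2) u).mp u.2
        simpa using h⟩
      left_inv := by intro u; apply Subtype.ext; simp [mul_assoc]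
      right_inv := by intro u; apply Subtype.ext; simp [mul_assoc]
      map_mul' := by
        intro a b
        apply Subtype.ext
        show (n : Γ) * ((a : Γ) * (b : Γ)) * (n : Γ)⁻¹ =
          ((n : Γ) * (a : Γ) * (n : Γ)⁻¹) * ((n : Γ) * (b : Γ) * (n : Γ)⁻¹)
        group }
  map_one' := by
    ext u
    simp
  map_mul' := by
    intro a b
    ext u
    simp [mul_assoc]

theorem conjAutOf_apply (U : Subgroup Γ) (n : ↥(Subgroup.normalizer (U : Set Γ))) (u : ↥U) :
    ((conjAutOf U n u : ↥U) : Γ) = (n : Γ) * u * (n : Γ)⁻¹ := rfl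

/-- A `2`-group normalizing a subgroup of order `4` acts on it as a group of order at most `2`. -/
theorem card_le_two_mul_of_card_four [Finite Γ] {U A : Subgroup Γ} (hU : Nat.card U = 4)
    (hA : IsPGroup 2 A) (hAU : A ≤ Subgroup.normalizer (U : Set Γ)) :
    Nat.card A ≤ 2 * Nat.card ↥(A ⊓ Subgroup.centralizer (U : Set Γ)) := by
  let φ : ↥A →* MulAut ↥U := (conjAutOf U).comp (Subgroup.inclusion hAU)
  have hker : φ.ker = (A ⊓ Subgroup.centralizer (U : Set Γ)).subgroupOf A := by
    ext a
    rw [MonoidHom.mem_ker, Subgroup.mem_subgroupOf]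
    constructor
    · intro h
      refine ⟨a.2, ?_⟩
      show (a : Γ) ∈ Subgroup.centralizer (U : Set Γ)
      rw [Subgroup.mem_centralizer_iff]
      intro u hu
      have h1 := congrArg (fun α : MulAut ↥U => ((α ⟨u, hu⟩ : ↥U) : Γ)) h
      have h2 : (a : Γ) * u * (a : Γ)⁻¹ = u := h1
      calc u * (a : Γ) = ((a : Γ) * u * (a : Γ)⁻¹)⁻¹⁻¹ * (a : Γ) := by rw [h2]; group
        _ = (a : Γ) * u := by group
    · rintro ⟨-, h⟩
      ext u
      show (a : Γ) * u * (a : Γ)⁻¹ = u
      have := Subgroup.mem_centralizer_iff.mp h u u.2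
      rw [← this]; group
  have h1 := Subgroup.card_mul_index φ.ker
  rw [Subgroup.index_ker] at h1
  have h2 : Nat.card ↥φ.ker = Nat.card ↥(A ⊓ Subgroup.centralizer (U : Set Γ)) := by
    rw [hker]
    exact Nat.card_congr (Subgroup.subgroupOfEquivOfLe inf_le_left).toEquiv
  have h3 : Nat.card ↥φ.range ∣ 6 :=
    (Subgroup.card_subgroup_dvd_card φ.range).trans (card_mulAut_dvd_of_card_four hU)
  have h4 : Nat.card ↥φ.range ∣ Nat.card ↥A := by
    rw [← h1]; exact dvd_mul_left _ _
  obtain ⟨k, hk⟩ := hA.exists_card_eq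
  rw [hk] at h4
  obtain ⟨j, -, hj⟩ := (Nat.dvd_prime_pow Nat.prime_two).mp h4
  have hj1 : j ≤ 1 := by
    by_contra hcon
    push Not at hcon
    have : 2 ^ 2 ∣ 6 := (pow_dvd_pow 2 hcon).trans (hj ▸ h3)
    omega
  have h5 : Nat.card ↥φ.range ≤ 2 := by
    rw [hj]
    calc 2 ^ j ≤ 2 ^ 1 := Nat.pow_le_pow_right (by norm_num) hj1
      _ = 2 := by norm_num
  rw [← h1, h2, mul_comm]
  exact Nat.mul_le_mul_right _ h5

end Cfsg.Agent.Lib.Helper49.FFAb
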