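import Mathlib.Tactic
import Cfsg.Prelude.Def_PLocal
import Cfsg.Agent.Lib.Helper49.HolTransfer
import Cfsg.Agent.Lib.Helper49.FFBlocks
import Cfsg.Agent.Lib.Helper47.ThompsonA
import Cfsg.Agent.Lib.Helper97.Thompson3
import Cfsg.Agent.Lib.Helper97.Replacement3

/-!
# Abelian best offenders

`IsAbBest p V A`: `A` is an abelian `p`-group which is a best offender on `V` in the numerical sense
(`|B||C_V(B)| ≤ |A||C_V(A)|` for all `B ≤ A`), without the requirement that `A/C_A(V)` be elementary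
abelian.  Abelian subgroups of largest order of a `p`-group `T` are such offenders on every abelian
`V ≤ T`; the notion transfers to the holomorph; and Timmesfeld's replacement `C_A([V,A])` is a best
offender in the sense of the Prelude.
-/

set_option autoImplicit false

namespace Cfsg.Agent.Lib.Helper49.FFAb

open Cfsg
open scoped commutatorElement

universe u

variable {Γ : Type u} [Group Γ]

/-- abelian `p`-group which is numerically a best offender on `V`. -/
def IsAbBest (p : ℕ) (V A : Subgroup Γ) : Prop :=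
  IsPGroup p A ∧ IsMulCommutative A ∧ ∀ B : Subgroup Γ, B ≤ A →
    Nat.card B * Nat.card ↥(V ⊓ Subgroup.centralizer (B : Set Γ)) ≤
      Nat.card A * Nat.card ↥(V ⊓ Subgroup.centralizer (A : Set Γ))

theorem isAbBest_bot (p : ℕ) (V : Subgroup Γ) : IsAbBest p V ⊥ := by
  refine ⟨IsPGroup.of_bot, inferInstance, ?_⟩
  intro B hB
  rw [le_bot_iff.mp hB]

/-- abelian subgroups of largest order of `T` are numerically best offenders on abelian `V ≤ T`. -/
theorem isAbBest_of_maxAbIn [Finite Γ] {p : ℕ} {T V A : Subgroup Γ} (hT : IsPGroup p T)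
    (hVT : V ≤ T) (hV : IsMulCommutative V) (hA : A ∈ Cfsg.Agent.Lib.Helper47.maxAbIn T) :
    IsAbBest p V A := by
  refine ⟨hT.to_le hA.1, hA.2.1, fun B hBA => ?_⟩
  set D := V ⊓ Subgroup.centralizer (B : Set Γ) with hD
  have hBc : IsMulCommutative B := Cfsg.Agent.Lib.Helper50.isMulCommutative_of_le hA.2.1 hBA
  have hDc : IsMulCommutative D := Cfsg.Agent.Lib.Helper50.isMulCommutative_of_le hV inf_le_left
  have hBD : B ≤ Subgroup.centralizer (D : Set Γ) := by
    intro b hb
    rw [Subgroup.mem_centralizer_iff]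
    intro d hd
    exact (Subgroup.mem_centralizer_iff.mp hd.2 b hb).symm
  have hsup : IsMulCommutative ↥(B ⊔ D) :=
    Cfsg.Agent.Lib.Helper50.isMulCommutative_sup B D hBc hDc hBD
  have h1 : Nat.card (B ⊔ D : Subgroup Γ) ≤ Nat.card A :=
    hA.2.2 _ (sup_le (hBA.trans hA.1) (inf_le_left.trans hVT)) hsup
  have h2 := Cfsg.Agent.Lib.Helper97.card_mul_card_le_sup_mul_inf B D
  have h3 : B ⊓ D ≤ V ⊓ Subgroup.centralizer (A : Set Γ) := by
    intro x hx
    refine ⟨hx.2.1, ?_⟩
    show x ∈ Subgroup.centralizer (A : Set Γ)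
    rw [Subgroup.mem_centralizer_iff]
    intro a ha
    have := hA.2.1.is_comm.comm ⟨a, ha⟩ ⟨x, hBA hx.1⟩
    exact congrArg Subtype.val this
  have h4 : Nat.card (B ⊓ D : Subgroup Γ) ≤
      Nat.card (V ⊓ Subgroup.centralizer (A : Set Γ) : Subgroup Γ) :=
    Nat.card_mono (Set.toFinite _) h3
  calc Nat.card B * Nat.card D ≤ Nat.card (B ⊔ D : Subgroup Γ) * Nat.card (B ⊓ D : Subgroup Γ) := h2
    _ ≤ Nat.card A * Nat.card (V ⊓ Subgroup.centralizer (A : Set Γ) : Subgroup Γ) :=
      Nat.mul_le_mul h1 h4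

/-- transfer to the holomorph. -/
theorem IsAbBest.map_holHom {G : Type u} [Group G] [Finite G] {p : ℕ} (V : Subgroup G) [V.Normal]
    {A : Subgroup G} (hA : IsAbBest p V A) : IsAbBest p (holV V) (A.map (holHom V)) := by
  obtain ⟨hp, hc, h1⟩ := hA
  refine ⟨hp.map _, Subgroup.map_isMulCommutative _ _, ?_⟩
  intro B' hB'
  set B : Subgroup G := A ⊓ B'.comap (holHom V) with hB
  have hBA : B ≤ A := inf_le_left
  have hmap : B.map (holHom V) = B' := by
    apply le_antisymm
    · rintro _ ⟨b, hb, rfl⟩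
      exact hb.2
    · intro x hx
      obtain ⟨a, ha, rfl⟩ := hB' hx
      exact ⟨a, ⟨ha, hx⟩, rfl⟩
  have hker : B ⊓ Subgroup.centralizer (V : Set G) = A ⊓ Subgroup.centralizer (V : Set G) := by
    apply le_antisymm
    · exact inf_le_inf_right _ hBA
    · rintro x ⟨hxA, hxC⟩
      refine ⟨⟨hxA, ?_⟩, hxC⟩
      rw [← holHom_ker] at hxC
      show holHom V x ∈ B'
      rw [MonoidHom.mem_ker.mp hxC]; exact B'.one_mem
  have e1 := card_map_holHom_mul V B
  have e2 := card_map_holHom_mul V A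
  rw [hker, hmap] at e1
  have e3 := card_holV_inf_centralizer_map V B
  have e4 := card_holV_inf_centralizer_map V A
  rw [hmap] at e3
  rw [e3, e4]
  have hk : 0 < Nat.card ↥(A ⊓ Subgroup.centralizer (V : Set G)) := Nat.card_pos
  have := h1 B hBA
  rw [← e1, ← e2] at this
  apply Nat.le_of_mul_le_mul_right _ hk
  calc Nat.card ↥B' * Nat.card ↥(V ⊓ Subgroup.centralizer (B : Set G)) *
        Nat.card ↥(A ⊓ Subgroup.centralizer (V : Set G))
      = Nat.card ↥B' * Nat.card ↥(A ⊓ Subgroup.centralizer (V : Set G)) *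
        Nat.card ↥(V ⊓ Subgroup.centralizer (B : Set G)) := by ring
    _ ≤ Nat.card ↥(A.map (holHom V)) * Nat.card ↥(A ⊓ Subgroup.centralizer (V : Set G)) *
        Nat.card ↥(V ⊓ Subgroup.centralizer (A : Set G)) := this
    _ = _ := by ring

/-- commutators of an abelian group are trivial. -/
theorem commutator_eq_bot_of_comm {A : Subgroup Γ} (hA : IsMulCommutative A) : ⁅A, A⁆ = ⊥ := by
  rw [Subgroup.commutator_eq_bot_iff_le_centralizer]
  intro a ha
  rw [Subgroup.mem_centralizer_iff]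
  intro b hb
  have := hA.is_comm.comm ⟨b, hb⟩ ⟨a, ha⟩
  exact congrArg Subtype.val this

/-- an element centralizing `[V, b]`-type commutators acts with `p`-th power trivial. -/
theorem pow_mem_centralizer_of_quadratic {p : ℕ} {V : Subgroup Γ} (hV : IsElementaryAbelian p V)
    {b : Γ} (hbV : b ∈ Subgroup.normalizer (V : Set Γ))
    (hq : ∀ v ∈ V, b * (b * v * b⁻¹ * v⁻¹) = (b * v * b⁻¹ * v⁻¹) * b) :
    b ^ p ∈ Subgroup.centralizer (V : Set Γ) := by
  rw [Subgroup.mem_centralizer_iff]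
  intro v hv
  set c := b * v * b⁻¹ * v⁻¹ with hc
  have hcV : c ∈ V := by
    have h1 : b * v * b⁻¹ ∈ V := (Subgroup.mem_normalizer_iff.mp hbV v).mp hv
    exact V.mul_mem h1 (V.inv_mem hv)
  have hcb : b * c = c * b := hq v hv
  have key : ∀ k : ℕ, b ^ k * v * (b ^ k)⁻¹ = c ^ k * v := by
    intro k
    induction k with
    | zero => simp
    | succ k ih =>
      have hck : b * c ^ k = c ^ k * b := (Commute.pow_right (show Commute b c from hcb) k).eq
      calc b ^ (k + 1) * v * (b ^ (k + 1))⁻¹ = b * (b ^ k * v * (b ^ k)⁻¹) * b⁻¹ := by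
            rw [pow_succ']; group
        _ = b * (c ^ k * v) * b⁻¹ := by rw [ih]
        _ = (b * c ^ k) * v * b⁻¹ := by group
        _ = c ^ k * b * v * b⁻¹ := by rw [hck]
        _ = c ^ k * (b * v * b⁻¹ * v⁻¹) * v := by group
        _ = c ^ (k + 1) * v := by rw [← hc, pow_succ]
  have h2 := key p
  rw [hV.2 c hcV, one_mul] at h2
  calc v * b ^ p = (b ^ p * v * (b ^ p)⁻¹)⁻¹⁻¹ * b ^ p := by rw [h2]; group
    _ = b ^ p * v := by group

/-- **Timmesfeld replacement for abelian offenders**: `C_A([V,A])` is a best offender in the sense of the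
Prelude, acting non-trivially if `A` does. -/
theorem IsAbBest.star [Finite Γ] {p : ℕ} [Fact p.Prime] {V A : Subgroup Γ}
    (hV : IsElementaryAbelian p V) (hAV : A ≤ Subgroup.normalizer (V : Set Γ))
    (hA : IsAbBest p V A) :
    IsBestOffenderOn p V (A ⊓ Subgroup.centralizer ((⁅V, A⁆ : Subgroup Γ) : Set Γ)) ∧
      (⁅V, A⁆ ≠ ⊥ → ⁅V, A ⊓ Subgroup.centralizer ((⁅V, A⁆ : Subgroup Γ) : Set Γ)⁆ ≠ ⊥) := by
  obtain ⟨hp, hc, hmax⟩ := hA
  have hVc : IsMulCommutative V := hV.1
  have hab : ⁅A, A⁆ ≤ Subgroup.centralizer (V : Set Γ) := by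
    rw [commutator_eq_bot_of_comm hc]; exact bot_le
  have hmax' : ∀ X : Subgroup Γ, X ≤ A →
      Cfsg.Agent.Lib.Helper97.offProd V X ≤ Cfsg.Agent.Lib.Helper97.offProd V A := hmax
  obtain ⟨h1, h2⟩ := Cfsg.Agent.Lib.Helper97.replacement hAV hab (le_refl V) hmax'
  set As : Subgroup Γ := A ⊓ Subgroup.centralizer ((⁅V, A⁆ : Subgroup Γ) : Set Γ) with hAs
  refine ⟨⟨?_, ?_, ?_⟩, ?_⟩
  · intro B hB
    have := hmax' B (hB.trans inf_le_left)
    unfold Cfsg.Agent.Lib.Helper97.offProd at this h1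
    rw [h1]
    exact this
  · exact (Subgroup.commutator_mono inf_le_left inf_le_left).trans hab
  · intro b hb
    apply pow_mem_centralizer_of_quadratic hV (hAV hb.1)
    intro v hv
    have hcomm : b * v * b⁻¹ * v⁻¹ ∈ ⁅V, A⁆ := by
      have h3 : ⁅v, b⁆ ∈ ⁅V, A⁆ := Subgroup.commutator_mem_commutator hv hb.1
      have h4 : b * v * b⁻¹ * v⁻¹ = (⁅v, b⁆)⁻¹ := by rw [commutatorElement_def]; group
      rw [h4]; exact Subgroup.inv_mem _ h3
    exact (Subgroup.mem_centralizer_iff.mp hb.2 _ hcomm).symm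
  · intro hne hbot
    apply hne
    have hcent : V ≤ Subgroup.centralizer (As : Set Γ) :=
      Subgroup.commutator_eq_bot_iff_le_centralizer.mp hbot
    have hVeq : V ≤ ⁅V, A⁆ ⊔ Cfsg.Agent.Lib.Helper97.cv V A := by
      have : Cfsg.Agent.Lib.Helper97.cv V As = V := inf_of_le_left hcent
      rw [← h2, this]
    have hle := Cfsg.Agent.Lib.Helper97.commutator_le_commutator_commutator hAV (le_refl V) hVeq
    exact Cfsg.Agent.Lib.Helper97.eq_bot_of_le_commutator_of_pGroup_action
      (Cfsg.Agent.Lib.Helper97.isPGroup_of_isElementaryAbelian hV) hAV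
      (fun a ha => by
        obtain ⟨k, hk⟩ := hp ⟨a, ha⟩
        refine ⟨k, ?_⟩
        have : a ^ p ^ k = 1 := by
          have := congrArg Subtype.val hk
          simpa using this
        rw [this]; exact Subgroup.one_mem _)
      (Cfsg.Agent.Lib.Helper97.commutator_le_of_le_normalizer hAV) hle

/-- In a faithful situation, best offenders are elementary abelian. -/
theorem isElementaryAbelian_of_isBestOffenderOn {p : ℕ} {V M B : Subgroup Γ}
    (hf : M ⊓ Subgroup.centralizer (V : Set Γ) = ⊥) (hBM : B ≤ M) (hB : IsBestOffenderOn p V B) :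
    IsElementaryAbelian p B := by
  obtain ⟨-, h2, h3⟩ := hB
  refine ⟨⟨⟨?_⟩⟩, ?_⟩
  · rintro ⟨a, ha⟩ ⟨b, hb⟩
    apply Subtype.ext
    show a * b = b * a
    have h4 : ⁅a, b⁆ ∈ M ⊓ Subgroup.centralizer (V : Set Γ) :=
      ⟨M.mul_mem (M.mul_mem (M.mul_mem (hBM ha) (hBM hb)) (M.inv_mem (hBM ha))) (M.inv_mem (hBM hb)),
        h2 (Subgroup.commutator_mem_commutator ha hb)⟩
    rw [hf, Subgroup.mem_bot, commutatorElement_def] at h4
    calc a * b = (a * b * a⁻¹ * b⁻¹) * (b * a) := by group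
      _ = b * a := by rw [h4, one_mul]
  · intro a ha
    have h4 : a ^ p ∈ M ⊓ Subgroup.centralizer (V : Set Γ) := ⟨M.pow_mem (hBM ha) p, h3 a ha⟩
    rw [hf, Subgroup.mem_bot] at h4
    exact h4

end Cfsg.Agent.Lib.Helper49.FFAb
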