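import Cfsg.Agent.Lib.Helper49.FFAb.Basic
import Cfsg.Agent.Lib.Helper49.FFAb.AutFour
import Cfsg.Agent.Lib.Helper51.ThompsonReplacement
import Cfsg.Agent.S0617
import Cfsg.Agent.S0611

/-!
# Abelian best offenders lie in the group generated by the elementary ones (`p = 2`)

`bestGen p V M` is the subgroup of `M` generated by the best offenders (Prelude sense) of `M` on `V`.
If `M` acts faithfully on the elementary abelian `2`-group `V` and `bestGen 2 V M` satisfies the hypothesis of
the structure theorem S0617, then every abelian numerically-best offender `A ≤ M` lies in `bestGen 2 V M`.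
-/

set_option autoImplicit false

namespace Cfsg.Agent.Lib.Helper49.FFAb

open Cfsg Cfsg.Agent.Lib.Helper49.FFB
open scoped commutatorElement

universe u

variable {Γ : Type u} [Group Γ]

/-- the subgroup of `M` generated by its best offenders on `V`. -/
def bestGen (p : ℕ) (V M : Subgroup Γ) : Subgroup Γ :=
  ⨆ A : {A : Subgroup Γ // A ≤ M ∧ IsBestOffenderOn p V A}, (A : Subgroup Γ)

theorem bestGen_le (p : ℕ) (V M : Subgroup Γ) : bestGen p V M ≤ M :=
  iSup_le fun A => A.2.1

theorem le_bestGen {p : ℕ} {V M A : Subgroup Γ} (hAM : A ≤ M) (hA : IsBestOffenderOn p V A) :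
    A ≤ bestGen p V M :=
  le_iSup (fun A : {A : Subgroup Γ // A ≤ M ∧ IsBestOffenderOn p V A} => (A : Subgroup Γ))
    ⟨A, hAM, hA⟩

theorem bestGen_eq_iSup (p : ℕ) (V M : Subgroup Γ) :
    bestGen p V M = ⨆ A : {A : Subgroup Γ // A ≤ bestGen p V M ∧ IsBestOffenderOn p V A},
      (A : Subgroup Γ) := by
  apply le_antisymm
  · apply iSup_le
    intro A
    exact le_iSup (fun A : {A : Subgroup Γ // A ≤ bestGen p V M ∧ IsBestOffenderOn p V A} =>
      (A : Subgroup Γ)) ⟨A, le_bestGen A.2.1 A.2.2, A.2.2⟩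
  · exact iSup_le fun A => A.2.1

theorem cjm_bestGen_le [Finite Γ] {p : ℕ} {V M : Subgroup Γ} {x : Γ}
    (hxV : x ∈ Subgroup.normalizer (V : Set Γ)) (hxM : x ∈ Subgroup.normalizer (M : Set Γ)) :
    cjm x (bestGen p V M) ≤ bestGen p V M := by
  unfold bestGen cjm
  rw [Subgroup.map_iSup]
  apply iSup_le
  intro A
  apply le_bestGen
  · have := cjm_mono x A.2.1
    rwa [cjm_eq_of_mem_normalizer hxM] at this
  · exact isBestOffenderOn_cjm hxV A.2.2

theorem mem_normalizer_bestGen [Finite Γ] {p : ℕ} {V M : Subgroup Γ} {x : Γ}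
    (hxV : x ∈ Subgroup.normalizer (V : Set Γ)) (hxM : x ∈ Subgroup.normalizer (M : Set Γ)) :
    x ∈ Subgroup.normalizer ((bestGen p V M : Subgroup Γ) : Set Γ) := by
  rw [Subgroup.mem_normalizer_iff_map_conj_eq]
  have h1 := cjm_bestGen_le (p := p) hxV hxM
  exact (Subgroup.eq_of_le_of_card_ge h1 (card_cjm x _).ge)

/-- the block configuration of `bestGen 2 V M`. -/
theorem blockCfg_bestGen [Finite Γ] {V M : Subgroup Γ} (hV : IsElementaryAbelian 2 V)
    (hMV : M ≤ Subgroup.normalizer (V : Set Γ))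
    (hf : M ⊓ Subgroup.centralizer (V : Set Γ) = ⊥)
    (hS1 : Subgroup.centralizer (pPrimeCore 2 ↥(bestGen 2 V M) : Set ↥(bestGen 2 V M)) ≤
      pPrimeCore 2 ↥(bestGen 2 V M))
    (hne : bestGen 2 V M ≠ ⊥) : BlockCfg 2 V (bestGen 2 V M) := by
  have : Fact (Nat.Prime 2) := ⟨Nat.prime_two⟩
  have hHV : bestGen 2 V M ≤ Subgroup.normalizer (V : Set Γ) := (bestGen_le 2 V M).trans hMV
  have hfH : bestGen 2 V M ⊓ Subgroup.centralizer (V : Set Γ) = ⊥ := by
    rw [eq_bot_iff, ← hf]
    exact inf_le_inf_right _ (bestGen_le 2 V M)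
  obtain ⟨hp, hE, hind, hsup, hindV, hsupV⟩ :=
    Cfsg.Agent.S0617.result V (bestGen 2 V M) hV hHV hfH hS1 (bestGen_eq_iSup 2 V M) hne
  exact ⟨hHV, hfH, hp, hE, hind, hsup, hindV, hsupV⟩

theorem two_mul_le_of_dvd_of_lt {d n : ℕ} (h : d ∣ n) (hlt : d < n) : 2 * d ≤ n := by
  obtain ⟨k, rfl⟩ := h
  rcases k with _ | _ | k
  · omega
  · omega
  · nlinarith

/-- **Main induction.** -/
theorem le_bestGen_of_isAbBest [Finite Γ] {V M : Subgroup Γ} (hV : IsElementaryAbelian 2 V)
    (hMV : M ≤ Subgroup.normalizer (V : Set Γ))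
    (hf : M ⊓ Subgroup.centralizer (V : Set Γ) = ⊥)
    (hS1 : Subgroup.centralizer (pPrimeCore 2 ↥(bestGen 2 V M) : Set ↥(bestGen 2 V M)) ≤
      pPrimeCore 2 ↥(bestGen 2 V M)) :
    ∀ A : Subgroup Γ, A ≤ M → IsAbBest 2 V A → A ≤ bestGen 2 V M := by
  have hp2 : Fact (Nat.Prime 2) := ⟨Nat.prime_two⟩
  set H := bestGen 2 V M with hH
  have hHV : H ≤ Subgroup.normalizer (V : Set Γ) := (bestGen_le 2 V M).trans hMV
  have hfH : H ⊓ Subgroup.centralizer (V : Set Γ) = ⊥ := by
    rw [eq_bot_iff, ← hf]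
    exact inf_le_inf_right _ (bestGen_le 2 V M)
  have key : ∀ n : ℕ, ∀ A : Subgroup Γ, Nat.card A = n → A ≤ M → IsAbBest 2 V A → A ≤ H := by
    intro n
    induction n using Nat.strong_induction_on with
    | _ n ih =>
    intro A hn hAM hA
    by_cases hVA : ⁅V, A⁆ = ⊥
    · have h1 : A ≤ M ⊓ Subgroup.centralizer (V : Set Γ) := by
        refine le_inf hAM ?_
        rw [Subgroup.le_centralizer_iff]
        exact Subgroup.commutator_eq_bot_iff_le_centralizer.mp hVA
      rw [hf] at h1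
      exact h1.trans bot_le
    · have hAV : A ≤ Subgroup.normalizer (V : Set Γ) := hAM.trans hMV
      obtain ⟨hstar, hstarne⟩ := hA.star hV hAV
      set As : Subgroup Γ := A ⊓ Subgroup.centralizer ((⁅V, A⁆ : Subgroup Γ) : Set Γ) with hAs
      have hAsne := hstarne hVA
      have hAsA : As ≤ A := inf_le_left
      -- a minimal best offender inside `As` acting nontrivially
      obtain ⟨B, hBAs, hBbo, hBne, hBmin⟩ : ∃ B : Subgroup Γ, B ≤ As ∧ IsBestOffenderOn 2 V B ∧
          ⁅V, B⁆ ≠ ⊥ ∧ ∀ B' : Subgroup Γ, B' ≤ B → IsBestOffenderOn 2 V B' → ⁅V, B'⁆ ≠ ⊥ → B' = B := by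
        let S : Set (Subgroup Γ) := {B | B ≤ As ∧ IsBestOffenderOn 2 V B ∧ ⁅V, B⁆ ≠ ⊥}
        have hSne : S.Nonempty := ⟨As, le_rfl, hstar, hAsne⟩
        obtain ⟨B, hB, hmin⟩ := Set.exists_min_image S (fun B => Nat.card B) (Set.toFinite S) hSne
        refine ⟨B, hB.1, hB.2.1, hB.2.2, ?_⟩
        intro B' hB'B hB'bo hB'ne
        have := hmin B' ⟨hB'B.trans hB.1, hB'bo, hB'ne⟩
        exact Subgroup.eq_of_le_of_card_ge hB'B this
      have hBA : B ≤ A := hBAs.trans hAsA
      have hBM : B ≤ M := hBA.trans hAM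
      have hBH : B ≤ H := le_bestGen hBM hBbo
      have hBbot : B ≠ ⊥ := by
        intro h
        apply hBne
        rw [h]
        exact Subgroup.commutator_bot_right V
      have hHne : H ≠ ⊥ := by
        intro h
        rw [h, le_bot_iff] at hBH
        exact hBbot hBH
      have c : BlockCfg 2 V H := blockCfg_bestGen hV hMV hf hS1 hHne
      obtain ⟨hB2, -, hidx⟩ := Cfsg.Agent.S0611.result V H hV hHV hfH hS1 (bestGen_eq_iSup 2 V M) hHne
        B hBH hBbo hBne hBmin
      let E : Blk 2 V H :=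
        ⟨⁅((Cfsg.pPrimeCore 2 ↥H).map H.subtype), B⁆ ⊔ B, B, hBH, hBbo, hBne, hBmin, rfl⟩
      have hBE : B ≤ (E : Subgroup Γ) := le_sup_right
      -- `A` normalizes `E`
      have hAE : ∀ a ∈ A, a ∈ Subgroup.normalizer (((E : Subgroup Γ)) : Set Γ) := by
        intro a ha
        have haM : a ∈ M := hAM ha
        have haH : a ∈ Subgroup.normalizer (H : Set Γ) :=
          mem_normalizer_bestGen (hMV haM) (Subgroup.le_normalizer haM)
        have haB : a ∈ Subgroup.normalizer (B : Set Γ) := by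
          apply Subgroup.centralizer_le_normalizer
          rw [Subgroup.mem_centralizer_iff]
          intro b hb
          have := hA.2.1.is_comm.comm ⟨b, hBA hb⟩ ⟨a, ha⟩
          exact congrArg Subtype.val this
        have hL : cjm a ((Cfsg.pPrimeCore 2 ↥H).map H.subtype) =
            (Cfsg.pPrimeCore 2 ↥H).map H.subtype := by
          have : (Cfsg.pPrimeCore 2 ↥H).Characteristic :=
            Cfsg.Agent.Lib.Helper55.pPrimeCore_characteristic 2
          exact cjm_map_subtype_of_characteristic haH _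
        rw [Subgroup.mem_normalizer_iff_map_conj_eq]
        show cjm a (⁅((Cfsg.pPrimeCore 2 ↥H).map H.subtype), B⁆ ⊔ B) = _
        rw [cjm_sup, cjm_commutator, hL, cjm_eq_of_mem_normalizer haB]
      have hAU : A ≤ Subgroup.normalizer ((c.U E : Subgroup Γ) : Set Γ) := fun a ha =>
        c.le_normalizer_U E (hAV ha) (hAE a ha)
      have hcardU : Nat.card (c.U E) = 4 := by
        rw [c.card_U E]; norm_num
      set A₁ : Subgroup Γ := A ⊓ Subgroup.centralizer ((c.U E : Subgroup Γ) : Set Γ) with hA₁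
      have hA₁A : A₁ ≤ A := inf_le_left
      have hidxA : Nat.card A ≤ 2 * Nat.card A₁ := card_le_two_mul_of_card_four hcardU hA.1 hAU
      have hBU : B ⊓ Subgroup.centralizer ((c.U E : Subgroup Γ) : Set Γ) = ⊥ := by
        rw [eq_bot_iff, ← c.inf_centralizer_U E]
        exact inf_le_inf_right _ hBE
      -- subgroups of `A₁` meet `B` trivially
      have hdisj : ∀ B' : Subgroup Γ, B' ≤ A₁ → Nat.card (B' ⊓ B : Subgroup Γ) = 1 := by
        intro B' hB'
        have : B' ⊓ B = ⊥ := by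
          rw [eq_bot_iff, ← hBU]
          intro x hx
          exact ⟨hx.2, (hB' hx.1).2⟩
        rw [this, Subgroup.card_bot]
      have hsupcard : ∀ B' : Subgroup Γ, B' ≤ A₁ → 2 * Nat.card B' ≤ Nat.card (B' ⊔ B : Subgroup Γ) := by
        intro B' hB'
        have := Cfsg.Agent.Lib.Helper97.card_mul_card_le_sup_mul_inf B' B
        rw [hdisj B' hB', hB2, mul_one] at this
        rw [mul_comm]; exact this
      -- `A = A₁ ⊔ B`
      have hsupA : A₁ ⊔ B ≤ A := sup_le hA₁A hBA
      have hcard1 : 2 * Nat.card A₁ ≤ Nat.card A :=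
        (hsupcard A₁ le_rfl).trans (Subgroup.card_le_of_le hsupA)
      have hAeq : A₁ ⊔ B = A :=
        Subgroup.eq_of_le_of_card_ge hsupA (hidxA.trans (hsupcard A₁ le_rfl))
      -- centralizers in `V`
      have hcv : ∀ B' : Subgroup Γ, Nat.card ↥(V ⊓ Subgroup.centralizer (B' : Set Γ)) ≤
          2 * Nat.card ↥(V ⊓ Subgroup.centralizer ((B' ⊔ B : Subgroup Γ) : Set Γ)) := by
        intro B'
        set X₁ := V ⊓ Subgroup.centralizer (B' : Set Γ) with hX₁
        set X₂ := V ⊓ Subgroup.centralizer (B : Set Γ) with hX₂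
        have h1 : V ⊓ Subgroup.centralizer ((B' ⊔ B : Subgroup Γ) : Set Γ) = X₁ ⊓ X₂ := by
          rw [Cfsg.Agent.Lib.Helper50.centralizer_sup, hX₁, hX₂]
          ext x
          simp only [Subgroup.mem_inf]
          tauto
        rw [h1]
        have h2 := Cfsg.Agent.Lib.Helper51.relIndex_mul_card_inf' X₁ X₂
        have h3 : X₂.relIndex X₁ ≤ X₂.relIndex V :=
          Subgroup.relIndex_le_of_le_right (inf_le_left : X₁ ≤ V) (by
            rw [hidx]; norm_num)
        rw [hidx] at h3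
        calc Nat.card ↥X₁ = X₂.relIndex X₁ * Nat.card ↥(X₁ ⊓ X₂) := h2.symm
          _ ≤ 2 * Nat.card ↥(X₁ ⊓ X₂) := Nat.mul_le_mul_right _ h3
      -- `C_V(A)` has index at least `2` in `C_V(A₁)`
      have hcvA : 2 * Nat.card ↥(V ⊓ Subgroup.centralizer (A : Set Γ)) ≤
          Nat.card ↥(V ⊓ Subgroup.centralizer (A₁ : Set Γ)) := by
        have hle : V ⊓ Subgroup.centralizer (A : Set Γ) ≤ V ⊓ Subgroup.centralizer (A₁ : Set Γ) :=
          inf_le_inf_left _ (Subgroup.centralizer_le hA₁A)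
        apply two_mul_le_of_dvd_of_lt (Subgroup.card_dvd_of_le hle)
        apply lt_of_le_of_ne (Subgroup.card_le_of_le hle)
        intro heq
        have heq' := Subgroup.eq_of_le_of_card_ge hle heq.ge
        -- then `U ≤ C(A)`, so `B` centralizes `U`
        have hU1 : c.U E ≤ V ⊓ Subgroup.centralizer (A₁ : Set Γ) := by
          refine le_inf (c.U_le_V E) ?_
          rw [Subgroup.le_centralizer_iff]
          exact inf_le_right
        rw [← heq'] at hU1
        have hU2 : c.U E ≤ Subgroup.centralizer (B : Set Γ) :=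
          (hU1.trans inf_le_right).trans (Subgroup.centralizer_le hBA)
        have hB3 : B ≤ B ⊓ Subgroup.centralizer ((c.U E : Subgroup Γ) : Set Γ) :=
          le_inf le_rfl (Subgroup.le_centralizer_iff.mp hU2)
        rw [hBU, le_bot_iff] at hB3
        exact hBbot hB3
      -- `A₁` is an abelian best offender
      have hA₁best : IsAbBest 2 V A₁ := by
        refine ⟨hA.1.to_le hA₁A, Cfsg.Agent.Lib.Helper50.isMulCommutative_of_le hA.2.1 hA₁A, ?_⟩
        intro B' hB'
        have h1 := hA.2.2 (B' ⊔ B) (sup_le (hB'.trans hA₁A) hBA)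
        have h2 := hsupcard B' hB'
        have h3 := hcv B'
        have hpos : 0 < Nat.card ↥(V ⊓ Subgroup.centralizer (A : Set Γ)) := Nat.card_pos
        calc Nat.card B' * Nat.card ↥(V ⊓ Subgroup.centralizer (B' : Set Γ))
            ≤ Nat.card B' * (2 * Nat.card ↥(V ⊓ Subgroup.centralizer ((B' ⊔ B : Subgroup Γ) : Set Γ))) :=
              Nat.mul_le_mul_left _ h3
          _ = (2 * Nat.card B') * Nat.card ↥(V ⊓ Subgroup.centralizer ((B' ⊔ B : Subgroup Γ) : Set Γ)) := by
              ring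
          _ ≤ Nat.card (B' ⊔ B : Subgroup Γ) *
                Nat.card ↥(V ⊓ Subgroup.centralizer ((B' ⊔ B : Subgroup Γ) : Set Γ)) :=
              Nat.mul_le_mul_right _ h2
          _ ≤ Nat.card A * Nat.card ↥(V ⊓ Subgroup.centralizer (A : Set Γ)) := h1
          _ ≤ (2 * Nat.card A₁) * Nat.card ↥(V ⊓ Subgroup.centralizer (A : Set Γ)) :=
              Nat.mul_le_mul_right _ hidxA
          _ = Nat.card A₁ * (2 * Nat.card ↥(V ⊓ Subgroup.centralizer (A : Set Γ))) := by ring
          _ ≤ Nat.card A₁ * Nat.card ↥(V ⊓ Subgroup.centralizer (A₁ : Set Γ)) :=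
              Nat.mul_le_mul_left _ hcvA
      have hlt : Nat.card A₁ < n := by
        have : 0 < Nat.card A₁ := Nat.card_pos
        omega
      have hA₁H : A₁ ≤ H := ih (Nat.card A₁) hlt A₁ rfl (hA₁A.trans hAM) hA₁best
      rw [← hAeq]
      exact sup_le hA₁H hBH
  intro A hAM hA
  exact key _ A rfl hAM hA

end Cfsg.Agent.Lib.Helper49.FFAb
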