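import Mathlib.Tactic
import Cfsg.Prelude.Def_PLocal
import Cfsg.Prelude.Def_CaseTheorems
import Cfsg.Agent.Lib.Helper22.SolvableLocal
import Cfsg.Agent.Lib.Helper22.PConstrained
import Cfsg.Agent.Lib.Helper97.PCoreQuot
import Cfsg.Agent.Lib.Helper97.Cores
import Cfsg.Agent.Lib.Helper50.LargeAbelian
import Cfsg.Agent.S0056

/-!
# The module `Ω₁(⟨Z(T)^X⟩)` of a solvable group with `F(X) = O₂(X)`

For `X` solvable with `F(X) = O₂(X)` and `T` a Sylow `2`-subgroup: `V = ⟨Z(T)^X⟩` is an abelian normal
`2`-subgroup, the core of `C_X(Z(T))` is `C_X(V)`, `O₂(X/C_X(V)) = 1`, and `W = Ω₁(V)` is an elementary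
abelian normal subgroup with `C_X(W) = C_X(V)`.
-/

set_option autoImplicit false

namespace Cfsg.Agent.Lib.Helper49.FFAb

open Cfsg

universe u

variable {X : Type u} [Group X]

/-- the elements of square one of a commutative subgroup. -/
def sqOne (V : Subgroup X) [hV : IsMulCommutative V] : Subgroup X where
  carrier := {v | v ∈ V ∧ v ^ 2 = 1}
  one_mem' := ⟨V.one_mem, one_pow 2⟩
  mul_mem' := by
    rintro a b ⟨ha, ha2⟩ ⟨hb, hb2⟩
    refine ⟨V.mul_mem ha hb, ?_⟩
    have hab : Commute a b := congrArg Subtype.val (hV.is_comm.comm ⟨a, ha⟩ ⟨b, hb⟩)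
    rw [hab.mul_pow, ha2, hb2, one_mul]
  inv_mem' := by
    rintro a ⟨ha, ha2⟩
    exact ⟨V.inv_mem ha, by rw [inv_pow, ha2, inv_one]⟩

theorem mem_sqOne {V : Subgroup X} [IsMulCommutative V] {v : X} :
    v ∈ sqOne V ↔ v ∈ V ∧ v ^ 2 = 1 := Iff.rfl

theorem sqOne_le (V : Subgroup X) [IsMulCommutative V] : sqOne V ≤ V := fun _ h => h.1

theorem sqOne_normal (V : Subgroup X) [IsMulCommutative V] [hn : V.Normal] : (sqOne V).Normal := by
  constructor
  intro w hw g
  refine ⟨hn.conj_mem w hw.1 g, ?_⟩
  rw [conj_pow, hw.2]; group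

theorem sqOne_isElementaryAbelian (V : Subgroup X) [hV : IsMulCommutative V] :
    IsElementaryAbelian 2 (sqOne V) :=
  ⟨Cfsg.Agent.Lib.Helper50.isMulCommutative_of_le hV (sqOne_le V), fun _ ha => ha.2⟩

/-- the core of the centralizer of `Z` is the centralizer of the normal closure of `Z`. -/
theorem normalCore_centralizer_eq (Z : Subgroup X) :
    (Subgroup.centralizer (Z : Set X)).normalCore =
      Subgroup.centralizer ((Subgroup.normalClosure (Z : Set X) : Subgroup X) : Set X) := by
  apply le_antisymm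
  · intro x hx
    have hV : Subgroup.normalClosure (Z : Set X) ≤ Subgroup.centralizer ({x} : Set X) := by
      unfold Subgroup.normalClosure
      rw [Subgroup.closure_le]
      intro y hy
      obtain ⟨z, hz, hzy⟩ := Group.mem_conjugatesOfSet_iff.mp hy
      obtain ⟨c, rfl⟩ := isConj_iff.mp hzy
      rw [SetLike.mem_coe, Subgroup.mem_centralizer_singleton_iff]
      have h1 : c⁻¹ * x * c⁻¹⁻¹ ∈ Subgroup.centralizer (Z : Set X) := hx c⁻¹
      have h2 := Subgroup.mem_centralizer_iff.mp h1 z hz
      calc c * z * c⁻¹ * x = c * (z * (c⁻¹ * x * c⁻¹⁻¹)) * c⁻¹ := by group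
        _ = c * ((c⁻¹ * x * c⁻¹⁻¹) * z) * c⁻¹ := by rw [h2]
        _ = x * (c * z * c⁻¹) := by group
    rw [Subgroup.mem_centralizer_iff]
    intro v hv
    exact Subgroup.mem_centralizer_singleton_iff.mp (hV hv)
  · rw [Subgroup.normal_le_normalCore]
    exact Subgroup.centralizer_le Subgroup.le_normalClosure

variable [Finite X]

/-- the set-up for the failure-of-factorization analysis of a solvable group with `F(X) = O₂(X)`. -/
theorem exists_module [Group.IsSolvable X] (hF : fittingSubgroup X = pCore 2 X) (T : Sylow 2 X) :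
    ∃ W : Subgroup X, ∃ _hWn : W.Normal, IsElementaryAbelian 2 W ∧ W ≤ (T : Subgroup X) ∧
      Subgroup.centralizer (W : Set X) =
        (Subgroup.centralizer (((T : Subgroup X) ⊓ Subgroup.centralizer ((T : Subgroup X) : Set X) :
          Subgroup X) : Set X)).normalCore ∧
      pCore 2 (X ⧸ Subgroup.centralizer (W : Set X)) = ⊥ := by
  have hp2 : Fact (Nat.Prime 2) := ⟨Nat.prime_two⟩
  set Q := pCore 2 X with hQ
  have hQn : Q.Normal := Cfsg.pCore_normal 2 X
  have hQp : IsPGroup 2 Q := Cfsg.Agent.Lib.Helper97.isPGroup_pCore 2 X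
  have hQT : Q ≤ (T : Subgroup X) := Cfsg.Agent.Lib.Helper97.pCore_le_sylow' T
  have hcQ : Subgroup.centralizer (Q : Set X) ≤ Q := by
    have hlay : layer X = ⊥ := Cfsg.Agent.Lib.Helper22.layer_eq_bot_of_isSolvable inferInstance
    have := Cfsg.Agent.Lib.Helper22.centralizer_fittingSubgroup_le_iff_layer_eq_bot.mpr hlay
    rwa [hF] at this
  set Z : Subgroup X := (T : Subgroup X) ⊓ Subgroup.centralizer ((T : Subgroup X) : Set X) with hZ
  set ZQ : Subgroup X := Q ⊓ Subgroup.centralizer (Q : Set X) with hZQ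
  have hZQn : ZQ.Normal := inferInstance
  have hZle : Z ≤ ZQ := by
    intro z hz
    have h1 : z ∈ Subgroup.centralizer (Q : Set X) := Subgroup.centralizer_le hQT hz.2
    exact ⟨hcQ h1, h1⟩
  set V : Subgroup X := Subgroup.normalClosure (Z : Set X) with hVdef
  have hVn : V.Normal := Subgroup.normalClosure_normal
  have hVZQ : V ≤ ZQ := Subgroup.normalClosure_le_normal hZle
  have hZQc : IsMulCommutative ZQ := by
    refine ⟨⟨?_⟩⟩
    rintro ⟨a, ha⟩ ⟨b, hb⟩
    apply Subtype.ext
    show a * b = b * a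
    exact Subgroup.mem_centralizer_iff.mp hb.2 a ha.1
  have hVc : IsMulCommutative V := Cfsg.Agent.Lib.Helper50.isMulCommutative_of_le hZQc hVZQ
  have hVQ : V ≤ Q := hVZQ.trans inf_le_left
  have hVp : IsPGroup 2 V := hQp.to_le hVQ
  have hZV : Z ≤ V := Subgroup.le_normalClosure
  -- the core
  have hcore : (Subgroup.centralizer (Z : Set X)).normalCore = Subgroup.centralizer (V : Set X) :=
    normalCore_centralizer_eq Z
  -- `O₂(X / C(V)) = 1`
  have hgen : V = ⨆ S : Sylow 2 X, V ⊓ Subgroup.centralizer ((S : Subgroup X) : Set X) := by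
    apply le_antisymm
    · rw [hVdef]
      unfold Subgroup.normalClosure
      rw [Subgroup.closure_le]
      intro y hy
      obtain ⟨z, hz, hzy⟩ := Group.mem_conjugatesOfSet_iff.mp hy
      obtain ⟨c, rfl⟩ := isConj_iff.mp hzy
      have hyV : c * z * c⁻¹ ∈ V := hVn.conj_mem z (hZV hz) c
      have hyC : c * z * c⁻¹ ∈ Subgroup.centralizer (((c • T : Sylow 2 X) : Subgroup X) : Set X) := by
        rw [Subgroup.mem_centralizer_iff]
        intro t' ht'
        rw [SetLike.mem_coe, Sylow.coe_subgroup_smul, Subgroup.mem_pointwise_smul_iff_inv_smul_mem] at ht'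
        have ht : c⁻¹ * t' * c ∈ (T : Subgroup X) := by
          simpa [MulAut.smul_def] using ht'
        have h2 := Subgroup.mem_centralizer_iff.mp hz.2 _ ht
        calc t' * (c * z * c⁻¹) = c * ((c⁻¹ * t' * c) * z) * c⁻¹ := by group
          _ = c * (z * (c⁻¹ * t' * c)) * c⁻¹ := by rw [h2]
          _ = c * z * c⁻¹ * t' := by group
      exact le_iSup (fun S : Sylow 2 X => V ⊓ Subgroup.centralizer ((S : Subgroup X) : Set X)) (c • T)
        ⟨hyV, hyC⟩
    · exact iSup_le fun S => inf_le_left
  have hQV : pCore 2 (X ⧸ Subgroup.centralizer (V : Set X)) = ⊥ :=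
    Cfsg.Agent.Lib.Helper97.pCore_quotient_centralizer_eq_bot V hgen
  -- `W`
  set W : Subgroup X := sqOne V with hW
  have hWn : W.Normal := sqOne_normal V
  have hWV : W ≤ V := sqOne_le V
  have hCle : Subgroup.centralizer (V : Set X) ≤ Subgroup.centralizer (W : Set X) :=
    Subgroup.centralizer_le hWV
  have hDn : (Subgroup.centralizer (W : Set X)).Normal := inferInstance
  -- the index of `C(V)` in `C(W)` is a power of `2`
  have hk : ∃ k : ℕ, (Subgroup.centralizer (V : Set X)).relIndex (Subgroup.centralizer (W : Set X)) = 2 ^ k := by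
    refine ⟨_, Nat.eq_prime_pow_of_unique_prime_dvd (Subgroup.index_ne_zero_of_finite) ?_⟩
    intro q hq hqd
    by_contra hq2
    have : Fact q.Prime := ⟨hq⟩
    set D := Subgroup.centralizer (W : Set X) with hD
    obtain S : Sylow q ↥D := Classical.arbitrary _
    have hSle : (S : Subgroup ↥D) ≤ (Subgroup.centralizer (V : Set X)).subgroupOf D := by
      set A : Subgroup X := (S : Subgroup ↥D).map D.subtype with hA
      have hAD : A ≤ D := by
        rintro _ ⟨x, -, rfl⟩
        exact x.2
      have hAq : IsPGroup q A := S.2.map D.subtype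
      have hAcent : A ≤ Subgroup.centralizer (V : Set X) := by
        apply Cfsg.Agent.S0056.result A V
        · rw [Subgroup.normalizer_eq_top]; exact le_top
        · obtain ⟨a, ha⟩ := hAq.exists_card_eq
          obtain ⟨b, hb⟩ := hVp.exists_card_eq
          rw [ha, hb]
          apply Nat.Coprime.pow
          exact (Nat.coprime_primes hq Nat.prime_two).mpr hq2
        · intro v hv hvprime a ha
          have hv2 : orderOf v = 2 := by
            obtain ⟨j, hj⟩ := (IsPGroup.iff_orderOf.mp hVp) ⟨v, hv⟩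
            rw [Subgroup.orderOf_mk] at hj
            rw [hj] at hvprime
            rcases j with _ | j
            · simp at hvprime
              exact absurd hvprime Nat.not_prime_one
            · have h1 : 2 ∣ 2 ^ (j + 1) := dvd_pow_self 2 (Nat.succ_ne_zero j)
              rw [hj]
              exact ((Nat.prime_dvd_prime_iff_eq Nat.prime_two hvprime).mp h1).symm
          have hvW : v ∈ W := ⟨hv, by rw [← hv2]; exact pow_orderOf_eq_one v⟩
          exact (Subgroup.mem_centralizer_iff.mp (hAD ha) v hvW).symm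
      intro s hs
      rw [Subgroup.mem_subgroupOf]
      exact hAcent ⟨s, hs, rfl⟩
    have h1 : ((Subgroup.centralizer (V : Set X)).subgroupOf D).index ∣ (S : Subgroup ↥D).index :=
      Subgroup.index_dvd_of_le hSle
    have h2 : ¬ q ∣ (S : Subgroup ↥D).index := S.not_dvd_index
    exact h2 (hqd.trans h1)
  have hCeq : Subgroup.centralizer (W : Set X) = Subgroup.centralizer (V : Set X) :=
    Cfsg.Agent.Lib.Helper97.eq_of_pCore_quotient_eq_bot _ hQV _ hDn hCle hk
  refine ⟨W, hWn, sqOne_isElementaryAbelian V, (hWV.trans hVQ).trans hQT, ?_, ?_⟩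
  · rw [hCeq, ← hcore]
  · have key : ∀ C C' : Subgroup X, ∀ (hC : C.Normal) (hC' : C'.Normal), C = C' →
        pCore 2 (X ⧸ C) = ⊥ → pCore 2 (X ⧸ C') = ⊥ := by
      intro C C' hC hC' h
      subst h
      exact id
    exact key _ _ inferInstance inferInstance hCeq.symm hQV

end Cfsg.Agent.Lib.Helper49.FFAb
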