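import Cfsg.Agent.Lib.Helper49.FFAb.Induct
import Cfsg.Agent.Lib.Helper49.FFAb.Setup
import Cfsg.Agent.Lib.Helper49.FF618
import Cfsg.Agent.Lib.Helper49.TF109
import Cfsg.Agent.Lib.Helper97.Frattini
import Cfsg.Agent.S0250

/-!
# Solvable groups with `F(X) = O₂(X)`: the normal closure of `J(T)` modulo the core of `C_X(Z(T))`

Main results used for S4302: the Frattini argument `⟨J(T)^X⟩ N_X(J(T)) = X` (abelian-version Thompson
subgroup), and `Y ≤ C` or `Y/(Y ∩ C) ≅ S₃ⁿ`.
-/

set_option autoImplicit false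

namespace Cfsg.Agent.Lib.Helper49.FFAb

open Cfsg Cfsg.Agent.Lib.Helper49.FFB Cfsg.Agent.Lib.Helper49

universe u

section Frattini

variable {G : Type u} [Group G] [Finite G]

/-- `N_G(P) ≤ N_G(J(P))` for the abelian-version Thompson subgroup. -/
theorem normalizer_le_normalizer_thompsonSubgroupAOf (P : Subgroup G) :
    Subgroup.normalizer (P : Set G) ≤ Subgroup.normalizer (thompsonSubgroupAOf P : Set G) := by
  intro g hg
  rw [Subgroup.mem_normalizer_iff_map_conj_eq]
  have hP : cjm g P = P := cjm_eq_of_mem_normalizer hg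
  have hle : cjm g (thompsonSubgroupAOf P) ≤ thompsonSubgroupAOf P := by
    rw [Cfsg.Agent.Lib.Helper47.thompsonSubgroupAOf_eq_sSup]
    unfold cjm
    rw [(Subgroup.gc_map_comap (MulAut.conj g).toMonoidHom).l_sSup]
    refine iSup₂_le fun A hA => ?_
    apply le_sSup
    have := hA.2.1
    refine ⟨?_, Subgroup.map_isMulCommutative _ _, fun B hBP hB => ?_⟩
    · have := cjm_mono g hA.1
      rwa [hP] at this
    · have h1 : Nat.card (cjm g A) = Nat.card A := card_cjm g A
      show Nat.card B ≤ Nat.card (cjm g A)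
      rw [h1]
      exact hA.2.2 B hBP hB
  exact Subgroup.eq_of_le_of_card_ge hle (card_cjm g _).ge

/-- Frattini argument for the abelian-version Thompson subgroup. -/
theorem normalClosure_sup_normalizer_thompsonA (T : Sylow 2 G) :
    Subgroup.normalClosure (thompsonSubgroupAOf (T : Subgroup G) : Set G) ⊔
      Subgroup.normalizer (thompsonSubgroupAOf (T : Subgroup G) : Set G) = ⊤ := by
  have hp2 : Fact (Nat.Prime 2) := ⟨Nat.prime_two⟩
  set J := thompsonSubgroupAOf (T : Subgroup G) with hJ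
  set Y := Subgroup.normalClosure (J : Set G) with hY
  have hYn : Y.Normal := Subgroup.normalClosure_normal
  have hJY : J ≤ Y := Subgroup.le_normalClosure
  have hJT : J ≤ (T : Subgroup G) := Cfsg.Agent.Lib.Helper47.thompsonSubgroupAOf_le' _
  rw [eq_top_iff]
  intro g _
  obtain ⟨m, hm, hn⟩ := Cfsg.Agent.Lib.Helper97.frattini_sylow_inf T Y g
  have h1 := normalizer_le_normalizer_thompsonSubgroupAOf _ hn
  rw [Cfsg.Agent.Lib.Helper47.thompsonSubgroupAOf_eq_of_le_of_le inf_le_left (le_inf hJT hJY)] at h1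
  have : g = m⁻¹ * (m * g) := by group
  rw [this]
  exact Subgroup.mul_mem_sup (Y.inv_mem hm) h1

end Frattini

section Main

variable {X : Type u} [Group X] [Finite X]

/-- `SL₂(2) ≅ S₃`. -/
theorem sl22_equiv_perm : Nonempty (Matrix.SpecialLinearGroup (Fin 2) (ZMod 2) ≃* Equiv.Perm (Fin 3)) := by
  have hp2 : Fact (Nat.Prime 2) := ⟨Nat.prime_two⟩
  exact Cfsg.Agent.S0250.result (F := ZMod 2) (ZMod.card 2)

/-- a group with a block configuration for `p = 2` is a direct product of copies of `S₃`. -/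
theorem BlockCfg.nonempty_equiv_pi {Γ : Type u} [Group Γ] [Finite Γ] {V H : Subgroup Γ}
    (c : BlockCfg 2 V H) (hne : H ≠ ⊥) :
    ∃ n : ℕ, 1 ≤ n ∧ Nonempty (↥H ≃* (Fin n → Equiv.Perm (Fin 3))) := by
  classical
  have hfin : Finite (Blk 2 V H) := inferInstance
  have : Fintype (Blk 2 V H) := Fintype.ofFinite _
  have hcomm : Pairwise fun E E' : Blk 2 V H =>
      ∀ x y : Γ, x ∈ (E : Subgroup Γ) → y ∈ (E' : Subgroup Γ) → Commute x y := by
    intro E E' hEE' x y hx hy
    have := c.le_centralizer_of_ne hEE' hy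
    exact Subgroup.mem_centralizer_iff.mp this x hx
  have hinj : Function.Injective (Subgroup.noncommPiCoprod hcomm) :=
    Subgroup.injective_noncommPiCoprod_of_iSupIndep c.hind
  have hrange : (Subgroup.noncommPiCoprod hcomm).range = H := by
    rw [Subgroup.noncommPiCoprod_range]; exact c.hsup
  have e1 : (∀ E : Blk 2 V H, ↥(E : Subgroup Γ)) ≃* ↥H :=
    (MonoidHom.ofInjective hinj).trans (MulEquiv.subgroupCongr hrange)
  obtain ⟨eS⟩ := sl22_equiv_perm
  have e2 : (∀ E : Blk 2 V H, ↥(E : Subgroup Γ)) ≃* (Blk 2 V H → Equiv.Perm (Fin 3)) :=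
    MulEquiv.piCongrRight (fun E => (Classical.choice (c.hE E).2.1).trans eS)
  have e3 : (Blk 2 V H → Equiv.Perm (Fin 3)) ≃* (Fin (Nat.card (Blk 2 V H)) → Equiv.Perm (Fin 3)) :=
    MulEquiv.arrowCongr (Finite.equivFin (Blk 2 V H)) (MulEquiv.refl _)
  refine ⟨Nat.card (Blk 2 V H), ?_, ⟨(e1.symm.trans e2).trans e3⟩⟩
  rw [Nat.one_le_iff_ne_zero, Nat.card_ne_zero]
  refine ⟨?_, hfin⟩
  by_contra hemp
  rw [not_nonempty_iff] at hemp
  have := c.hsup
  rw [iSup_of_empty] at this
  exact hne this.symm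

/-- **Main dichotomy.** -/
theorem main_dichotomy [Group.IsSolvable X] (hF : fittingSubgroup X = pCore 2 X) (T : Sylow 2 X)
    (C : Subgroup X) [hCn : C.Normal]
    (hC : C = (Subgroup.centralizer (((T : Subgroup X) ⊓ Subgroup.centralizer ((T : Subgroup X) : Set X) :
      Subgroup X) : Set X)).normalCore) :
    Subgroup.normalClosure (thompsonSubgroupAOf (T : Subgroup X) : Set X) ≤ C ∨
      ∃ n : ℕ, 1 ≤ n ∧
        Nonempty (↥(Subgroup.normalClosure (thompsonSubgroupAOf (T : Subgroup X) : Set X)) ⧸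
            C.subgroupOf (Subgroup.normalClosure (thompsonSubgroupAOf (T : Subgroup X) : Set X))
          ≃* (Fin n → Equiv.Perm (Fin 3))) := by
  have hp2 : Fact (Nat.Prime 2) := ⟨Nat.prime_two⟩
  obtain ⟨W, hWn, hWe, hWT, hCW, hQ⟩ := exists_module hF T
  have hCW' : C = Subgroup.centralizer (W : Set X) := by rw [hC, hCW]
  subst hCW'
  set J := thompsonSubgroupAOf (T : Subgroup X) with hJ
  set Y := Subgroup.normalClosure (J : Set X) with hY
  have hYn : Y.Normal := Subgroup.normalClosure_normal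
  have hJY : J ≤ Y := Subgroup.le_normalClosure
  have hsep : IsPSolvable 2 X := TF109.isPSolvable_of_isSolvable' 2 _ X rfl
  -- the holomorph
  set ψ := holHom W with hψ
  set V' := holV W with hV'def
  have hV' : IsElementaryAbelian 2 V' := holV_isElementaryAbelian W hWe
  have hV'n : V'.Normal := holV_normal W
  set M := Y.map ψ with hM
  have hNtop : Subgroup.normalizer ((V' : Subgroup (Hol W)) : Set (Hol W)) = ⊤ :=
    Subgroup.normalizer_eq_top _
  have hMV : M ≤ Subgroup.normalizer ((V' : Subgroup (Hol W)) : Set (Hol W)) := by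
    rw [hNtop]; exact le_top
  have hf : M ⊓ Subgroup.centralizer ((V' : Subgroup (Hol W)) : Set (Hol W)) = ⊥ :=
    map_holHom_inf_centralizer_holV W Y
  set H := bestGen 2 V' M with hH
  have hHM : H ≤ M := bestGen_le 2 V' M
  -- the preimage of `H` in `Y`
  set Jn : Subgroup X := Y ⊓ H.comap ψ with hJn
  have hJnn : Jn.Normal := by
    constructor
    intro j hj x
    refine ⟨hYn.conj_mem j hj.1 x, ?_⟩
    show ψ (x * j * x⁻¹) ∈ H
    rw [map_mul, map_mul, map_inv]
    have hxV : ψ x ∈ Subgroup.normalizer ((V' : Subgroup (Hol W)) : Set (Hol W)) := by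
      rw [hNtop]; exact Subgroup.mem_top _
    have hxM : ψ x ∈ Subgroup.normalizer ((M : Subgroup (Hol W)) : Set (Hol W)) := by
      apply Subgroup.le_normalizer_map ψ
      refine ⟨x, ?_, rfl⟩
      rw [Subgroup.normalizer_eq_top]; exact Subgroup.mem_top _
    have := mem_normalizer_bestGen (p := 2) hxV hxM
    exact (Subgroup.mem_normalizer_iff.mp this _).mp hj.2
  have hJnmap : Jn.map ψ = H := by
    apply le_antisymm
    · rintro _ ⟨j, hj, rfl⟩
      exact hj.2
    · intro h hh
      obtain ⟨y, hy, rfl⟩ := hHM hh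
      exact ⟨y, ⟨hy, hh⟩, rfl⟩
  have hS1 : Subgroup.centralizer (pPrimeCore 2 ↥H : Set ↥H) ≤ pPrimeCore 2 ↥H := by
    have key : ∀ H' : Subgroup (Hol W), Jn.map ψ = H' →
        Subgroup.centralizer (pPrimeCore 2 ↥H' : Set ↥H') ≤ pPrimeCore 2 ↥H' := by
      rintro _ rfl
      exact FF618.hS1_aux hsep W hQ Jn
    exact key H hJnmap
  -- the images of the abelian subgroups of largest order lie in `H`
  have hAH : ∀ A ∈ Cfsg.Agent.Lib.Helper47.maxAbIn (T : Subgroup X), A ≤ Jn := by
    intro A hA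
    have hAY : A ≤ Y := (Cfsg.Agent.Lib.Helper47.le_thompsonSubgroupAOf hA).trans hJY
    have hbest : IsAbBest 2 W A := isAbBest_of_maxAbIn T.isPGroup' hWT hWe.1 hA
    have hbest' : IsAbBest 2 V' (A.map ψ) := hbest.map_holHom W
    have hle : A.map ψ ≤ H :=
      le_bestGen_of_isAbBest hV' hMV hf hS1 _ (Subgroup.map_mono hAY) hbest'
    exact le_inf hAY (Subgroup.map_le_iff_le_comap.mp hle)
  have hJJn : J ≤ Jn := Cfsg.Agent.Lib.Helper47.thompsonSubgroupAOf_le_of_forall hAH
  have hYJn : Y ≤ Jn := Subgroup.normalClosure_le_normal hJJn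
  have hMH : M = H := le_antisymm (by rw [← hJnmap]; exact Subgroup.map_mono hYJn) hHM
  by_cases hne : H = ⊥
  · left
    rw [← hMH] at hne
    have := (Subgroup.map_eq_bot_iff Y).mp hne
    rwa [holHom_ker] at this
  · right
    have c : BlockCfg 2 V' H := blockCfg_bestGen hV' hMV hf hS1 hne
    obtain ⟨n, hn, ⟨e⟩⟩ := BlockCfg.nonempty_equiv_pi c hne
    refine ⟨n, hn, ?_⟩
    set φ : ↥Y →* Hol W := ψ.domRestrict Y with hφ
    have hker : (Subgroup.centralizer (W : Set X)).subgroupOf Y = φ.ker := by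
      rw [hφ, MonoidHom.ker_domRestrict, holHom_ker]
    have hrange : φ.range = H := by
      rw [hφ, MonoidHom.domRestrict_range, ← hMH]
    exact ⟨(((QuotientGroup.quotientMulEquivOfEq hker).trans
      (QuotientGroup.quotientKerEquivRange φ)).trans (MulEquiv.subgroupCongr hrange)).trans e⟩

end Main

end Cfsg.Agent.Lib.Helper49.FFAb
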